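import Cfsg.Agent.HN.CentUp
import Cfsg.Agent.HN.Central

/-!
# `HN`: an element of order 8 with centralizer of order 80 (helper285, for S4842)

`g = [1, 2, 4, 2]` has order 40 in `H0 = 2.HS.2`, `g ^ 20 = τ`; `v = g ^ 5` has order 8, `v ^ 4 = τ`, `|C(v)| = 80`, and `v` is
conjugate to all its odd powers.
-/

set_option autoImplicit false
set_option maxRecDepth 100000

namespace Cfsg.Agent.H285.HNEight

open Subgroup Cfsg.Agent.HN Cfsg.Agent.HN.Pres Cfsg.Agent.HN.HS100 Cfsg.Agent.HN.H0Basic
open Cfsg.Agent.HN.P1408 hiding ψ ψ_gx ψ_gy ψ_gz ψ_injective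
open Cfsg.Agent.HN.Classes Cfsg.Agent.HN.ColChain Cfsg.Agent.HN.CentUp Cfsg.Agent.HN.NormalH
open Cfsg.Agent.SporadicA.PermTab

/-- the word of order 40 -/
def wg : List ℕ := [1, 2, 4, 2]
/-- the word of `v` -/
def wv : List ℕ := wg ++ wg ++ wg ++ wg ++ wg
/-- the element of order 40 -/
def g : H0 := hw wg
/-- the element of order 8 -/
def v : H0 := hw wv

theorem v_eq : v = g ^ 5 := by
  simp only [v, wv, g, hw_append, pow_succ, pow_zero, one_mul]

theorem v_four : v ^ 4 = τ := by
  rw [← hw_τ]
  simp only [v, pow_succ, pow_zero, one_mul, ← hw_append]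
  exact hw_eq (by decide +kernel)

theorem v_eight : v ^ 8 = 1 := by
  rw [show (8 : ℕ) = 4 * 2 by norm_num, pow_mul, v_four, τ_sq]

theorem order_v : orderOf v = 8 := by
  have : Fact (Nat.Prime 2) := ⟨Nat.prime_two⟩
  refine orderOf_eq_prime_pow (n := 2) (p := 2) ?_ ?_
  · change ¬ v ^ 4 = 1
    rw [v_four]
    exact τ_ne_one
  · exact v_eight

/-- conjugating words -/
def x3 : List ℕ := [0, 2, 2]
/-- conjugating words -/
def x5 : List ℕ := [0, 2, 0, 3, 0, 2, 2, 2, 0, 2, 2, 1, 3]

theorem conj_three : (hw x3)⁻¹ * v * hw x3 = v ^ 3 := by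
  rw [← hw_iw]
  simp only [v, pow_succ, pow_zero, one_mul, ← hw_append]
  exact hw_eq (by decide +kernel)

theorem conj_five : (hw x5)⁻¹ * v * hw x5 = v ^ 5 := by
  rw [← hw_iw]
  simp only [v, pow_succ, pow_zero, one_mul, ← hw_append]
  exact hw_eq (by decide +kernel)

theorem conj_five' : (hw x5)⁻¹ * hw wv * hw x5 = hw wv * τ := by
  rw [← v_four]
  exact conj_five.trans (pow_succ' v 4)

/-! ### the centralizer -/

/-- tables -/
def cVV : List ℕ := [0x7a1082e0560c20c028048074044220450aa0542485a04016c0405e0ae0c42a01e04210c2785f01c0601684e06a0fc250290720f00785104c0bc3103208e0142082e05006c2c85d0a4050090030480dc1381a0321303000b026008160460680ec0682b00e040200530020001281f018160268330120a80b0060380103183e07008c0503609605c1101d]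
/-- chain -/
def cVBS : List (ℕ × ℕ × ℕ × ℕ) := [
  (14, 20, 0x40000000400000007d000000400000007d00000040000000400000007d000000400000004000000040000000400000007d000000400000007d00000040000000400000004000000040000000400000007d000000400000004000000040000000400000007d0000007d0000007d0000007d0000004000000040000000400000007d000000400000007d0000004000000040000000400000004000000040000000400000004000000040000000400000007d000000400000007d0000007d00000040000000400000004000000040000000400000007d0000004000000040000000400000007d000000400000004000000040000000400000004000000040000000400000004000000040000000400000007d000000400000004000000040000000400000004000000040000000400000004000000040000000400000007d00000040000000400000004000000040000000400000007d0000004000000040000000400000004000000040000000400000004000000040000000400000004000000040000000400000004000000040, 0x6ee0000007d0000007d),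
  (10, 2, 0x7d0000007d0000005033d0007d000000430c1000400000004000000081bf10004000000040000000400000004cc4000081bf10004cc40000430c10004000000040000000400000004cc40000400000005033d0007d0000007d0000004cc400004000000081bf1000430c1000430c10005033d0007d0000007d0000004cc40000430c1000400000005033d0004cc400004000000040000000400000004000000040000000400000004cc400004000000081bf10007d000000430c10005033d000400000004000000040000000400000004000000081bf1000400000007d00000040000000fb89d0007d0000004cc4000040000000400000004cc400004000000040000000400000004cc400004cc40000430c10007d0000004000000040000000400000007d0000004000000040000000400000004cc400007d000000430c100040000000400000004cc400004000000040000000ac1c90004000000040000000400000007d0000004cc400007d00000040000000400000004cc400004cc400004000000040000000400000007d000, 0x684e5c0007d0000004cc40),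
  (32, 2, 0x5ca6bf20a897bf2115f72ba05ca6bf207a2d52a077145f9046535f906157af3077145f9046535f9077145f91202c23906157af3112935f905566276046535f9046535f90525f6391202c2390525f639115f72ba05ca6bf20a897bf2112935f9046535f906157af307a2d52a055662761239653605ca6bf20a897bf2112935f9049541fa046535f9115f72ba112935f9046535f9046535f9046535f9046535f90525f639046535f91202c239083815390ad66e2305ca6bf2049541fa115f72ba046535f9077145f90525f639046535f9046535f906157af3046535f905ca6bf2046535f908049d2105ca6bf2112935f9046535f9077145f9112935f90525f6390838153908381539112935f9112935f9049541fa05ca6bf2046535f9077145f9046535f905ca6bf2046535f9046535f90525f639112935f905ca6bf2049541fa08381539046535f91202c239046535f9046535f93543dfa3046535f9077145f90838153908262df2112935f90a897bf20525f6390525f639112935f91822b5f9046535f9077145f90838153905ca6bf2, 0xae9d51dc112935f905ca6bf2)]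
/-- last table -/
def cVT : ℕ := 0x39bce14205fbc4340c1523bd39bce142227e75d61a664c0702c53bbe0b7f2f181a664c070a44ba8e2c7d19ac29315c2d0b7f2f1832d4256123b923131000dde93843d36a2ef2fc5929315c2d2ef2fc592d83aa8b39bce14205fbc434117f21c302c53bbe0b7f2f18239d2f68327b977a242d8ee70fa9f8060f910251117f21c332c5fbbf02c53bbe0c1523bd117f21c302c53bbe02c53bbe3843d36a02c53bbe2ef2fc591000dde929315c2d2216c95d1744ed2e37b3d32532c5fbbf2d83aa8b02c53bbe2c7d19ac025c9d2202c53bbe3843d36a0b7f2f180a44ba8e39bce14202c53bbe39fb68d937b3d325117f21c302c53bbe1a664c07117f21c32ef2fc590ce63c3209824cb8117f21c321f69d92046cd41f37b3d3251000dde91a664c0702c53bbe37b3d32502c53bbe1000dde92eda89fe32d4256137b3d32532c5fbbf304e78943843d36a154f55c402c53bbe02c53bbe0c3f41e00a44ba8e1a664c07304e7894004530b0117f21c305fbc4340214a07d0214a07d117f21c322df1eaa3843d36a048bb0d0304e789437b3d325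
/-- ranks -/
def cVR : ℕ := 0x7c01c2305802610c168400880c41781c0580880905003603c0400e0561140504c06c0602e82803e1881f85b0aa178210340a81440e8390281700480306e0140f01606a1380084d0700640d04107a14c0685702e17c1903c00012c1980c09208c318480b40902904f00c0081303b05c0c00201004e11c108610941801482a02a158058250221641d020
/-- order -/
def cVO : ℕ := 0x3a1180600a04c1082483a08806c010600500182183f0540641f0540300c81804c04402c0f81c01c1842705b0bc1041605c08a18c158240280041e02f06e12c198400420942d0120b204c2e85709e0200484801e0540201a03c1580680008e0d41e8580a60b41704a04e0d00383b0be154018100a41401482000a1341c8510c405c1b01107005818823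

theorem cV_le : Nat.card (cenA [wv]) ≤ 80 :=
  card_cenA_le (VS := cVV) (bs := cVBS) (T := cVT) (R := cVR) (O := cVO) (by decide +kernel) (by decide +kernel)

theorem card_cent_le : Nat.card (centralizer ({v} : Set H0)) ≤ 80 :=
  card_centralizer_le_of_conj cV_le conj_five'

/-- an element of order 8 commuting with `v` -/
def u : H0 := hw [0, 4, 2, 4, 3, 0, 4, 3, 4, 2, 4]

theorem u_comm : u * v = v * u := by
  simp only [u, v, ← hw_append]
  exact hw_eq (by decide +kernel)

theorem u_eight : u ^ 8 = 1 := by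
  simp only [u, pow_succ, pow_zero, one_mul, ← hw_append]
  rw [← hw_nil]
  exact hw_eq (by decide +kernel)

/-- the words of the powers of `v` -/
def wp (n : ℕ) : List ℕ := Nat.rec [] (fun _ ih => ih ++ wv) n

theorem hw_wp (n : ℕ) : hw (wp n) = v ^ n := by
  induction n with
  | zero => rw [pow_zero]; rfl
  | succ n ih =>
    rw [pow_succ, ← ih, v, ← hw_append]
    rfl

theorem pow_ne : ∀ n < 8, v ^ n ≠ u := by
  intro n hn
  rw [← hw_wp n, u]
  interval_cases n
  · exact hw_ne rfl rfl (p := 0) (by norm_num) (by decide +kernel)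
  · exact hw_ne rfl rfl (p := 0) (by norm_num) (by decide +kernel)
  · exact hw_ne rfl rfl (p := 0) (by norm_num) (by decide +kernel)
  · exact hw_ne rfl rfl (p := 0) (by norm_num) (by decide +kernel)
  · exact hw_ne rfl rfl (p := 0) (by norm_num) (by decide +kernel)
  · exact hw_ne rfl rfl (p := 0) (by norm_num) (by decide +kernel)
  · exact hw_ne rfl rfl (p := 0) (by norm_num) (by decide +kernel)
  · exact hw_ne rfl rfl (p := 8) (by norm_num) (by decide +kernel)

theorem u_not_mem : u ∉ zpowers v := by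
  intro h
  obtain ⟨k, hk⟩ := (mem_zpowers_iff.1 h : ∃ k : ℤ, v ^ k = u)
  have h1 : v ^ (k % 8) = u := by
    rw [← hk]
    have := zpow_mod_orderOf v k
    rwa [order_v] at this
  have h2 : 0 ≤ k % 8 := Int.emod_nonneg _ (by norm_num)
  have h3 : k % 8 < 8 := Int.emod_lt_of_pos _ (by norm_num)
  obtain ⟨n, hn⟩ := Int.eq_ofNat_of_zero_le h2
  rw [hn, zpow_natCast] at h1
  have h4 : n < 8 := by omega
  exact pow_ne n h4 h1

theorem sixteen_dvd : 16 ∣ Nat.card (centralizer ({v} : Set H0)) := by
  have hv : v ∈ centralizer ({v} : Set H0) := centralizer_singleton_mem.2 rfl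
  have hu : u ∈ centralizer ({v} : Set H0) := centralizer_singleton_mem.2 u_comm
  set C := centralizer ({v} : Set H0) with hC
  let v' : C := ⟨v, hv⟩
  let u' : C := ⟨u, hu⟩
  have hcen : ∀ y : C, y * v' = v' * y := fun y => Subtype.ext (centralizer_singleton_mem.1 y.2)
  have hnorm : (zpowers v').Normal := by
    refine ⟨fun n hn y => ?_⟩
    obtain ⟨k, rfl⟩ := hn
    have h1 : Commute y (v' ^ k) := Commute.zpow_right (hcen y) k
    rw [show y * (fun x => v' ^ x) k * y⁻¹ = v' ^ k from by
      change y * v' ^ k * y⁻¹ = v' ^ k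
      rw [h1.eq, mul_inv_cancel_right]]
    exact ⟨k, rfl⟩
  have hov : orderOf v' = 8 := by
    rw [← order_v, ← Subgroup.orderOf_coe]
  have h1 : IsPGroup 2 ↥(zpowers v') := IsPGroup.of_card (n := 3) (by rw [Nat.card_zpowers, hov]; norm_num)
  have h2 : IsPGroup 2 ↥(zpowers u') := by
    obtain ⟨m, -, h⟩ := (Nat.dvd_prime_pow Nat.prime_two).1
      (show orderOf u' ∣ 2 ^ 3 from orderOf_dvd_of_pow_eq_one (Subtype.ext (by
        rw [show (2 : ℕ) ^ 3 = 8 by norm_num]; exact u_eight)))
    exact IsPGroup.of_card (n := m) (by rw [Nat.card_zpowers, h])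
  have h3 : IsPGroup 2 ↥(zpowers v' ⊔ zpowers u') := h1.to_sup_of_normal_left h2
  obtain ⟨m, hm⟩ := IsPGroup.iff_card.1 h3
  have h4 : 2 ^ 3 ∣ 2 ^ m := by
    rw [← hm]
    have := card_dvd_of_le (le_sup_left : zpowers v' ≤ zpowers v' ⊔ zpowers u')
    rw [Nat.card_zpowers, hov] at this
    exact this
  have h5 : 3 ≤ m := (Nat.pow_dvd_pow_iff_le_right (by norm_num)).1 h4
  have h6 : m ≠ 3 := by
    rintro rfl
    have h7 : zpowers v' = zpowers v' ⊔ zpowers u' := by
      refine eq_of_le_of_card_ge le_sup_left ?_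
      rw [hm, Nat.card_zpowers, hov]
      norm_num
    have h8 : u' ∈ zpowers v' := by
      rw [h7]
      exact (le_sup_right : zpowers u' ≤ _) (mem_zpowers u')
    obtain ⟨k, hk⟩ := h8
    exact u_not_mem ⟨k, congrArg Subtype.val hk⟩
  have h9 : 2 ^ 4 ∣ 2 ^ m := pow_dvd_pow 2 (by omega)
  rw [← hm] at h9
  exact h9.trans (card_subgroup_dvd_card _)

theorem five_dvd : 5 ∣ Nat.card (centralizer ({v} : Set H0)) := by
  have h1 : (g ^ 8) ^ 5 = 1 := by
    rw [← pow_mul, show 8 * 5 = 5 * 8 by norm_num, pow_mul, ← v_eq, v_eight]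
  refine prime_dvd_card (g := g ^ 8) ?_ Nat.prime_five h1 ?_
  · rw [centralizer_singleton_mem, v_eq, ← pow_add, ← pow_add]
  · intro h2
    have h3 : g ^ 8 = hw (wg ++ wg ++ wg ++ wg ++ wg ++ wg ++ wg ++ wg) := by
      simp only [g, hw_append, pow_succ, pow_zero, one_mul]
    rw [h3, ← hw_nil] at h2
    exact hw_ne rfl rfl (p := 3) (by norm_num) (by decide +kernel) h2

/-- **`|C_{H0}(v)| = 80`.** -/
theorem card_cent : Nat.card (centralizer ({v} : Set H0)) = 80 := by
  apply le_antisymm card_cent_le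
  exact Nat.le_of_dvd Nat.card_pos (Nat.Coprime.mul_dvd_of_dvd_of_dvd (by norm_num : Nat.Coprime 16 5) sixteen_dvd five_dvd)

/-! ### in `HN` -/

theorem ψ_τ : ψ τ = Pres.hx ^ 2 := by
  rw [← ψ_gx, ← map_pow, ← hw_τ, pow_two]
  rfl

theorem ψ_inj : Function.Injective ψ :=
  NormalH.ψ_injective H0Basic.finite_H0 H0Basic.card_H0_le XSq.hx_sq_ne

theorem order_ψv : orderOf (ψ v) = 8 := by
  rw [orderOf_injective ψ ψ_inj, order_v]

theorem ψv_four : (ψ v) ^ 4 = ψ τ := by
  rw [← map_pow, v_four]

theorem cent_eq : centralizer ({ψ v} : Set Cfsg.Spor.HN) = (centralizer ({v} : Set H0)).map ψ := by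
  ext y
  rw [mem_centralizer_singleton_iff]
  constructor
  · intro h
    have h1 : y * ψ τ = ψ τ * y := by
      rw [← ψv_four]
      exact (Commute.pow_right (show Commute y (ψ v) from h) 4).eq
    have h2 : y ∈ ψ.range := by
      rw [range_ψ, ← Central.centralizer_eq, ← ψ_τ]
      exact mem_centralizer_singleton_iff.2 h1
    obtain ⟨z, rfl⟩ := h2
    refine ⟨z, centralizer_singleton_mem.2 (ψ_inj ?_), rfl⟩
    rw [map_mul, map_mul]
    exact h
  · rintro ⟨z, hz, rfl⟩
    rw [← map_mul, ← map_mul, centralizer_singleton_mem.1 hz]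

/-- **`|C_{HN}(v)| = 80`.** -/
theorem card_cent_ψv : Nat.card (centralizer ({ψ v} : Set Cfsg.Spor.HN)) = 80 := by
  rw [cent_eq, ← card_cent]
  exact Nat.card_congr (equivMapOfInjective _ ψ ψ_inj).symm.toEquiv

theorem isConj_three : IsConj v (v ^ 3) :=
  isConj_iff.2 ⟨(hw x3)⁻¹, by rw [inv_inv]; exact conj_three⟩

theorem isConj_five : IsConj v (v ^ 5) :=
  isConj_iff.2 ⟨(hw x5)⁻¹, by rw [inv_inv]; exact conj_five⟩

theorem isConj_seven : IsConj v (v ^ 7) := by
  have h1 : IsConj (v ^ 3) ((v ^ 5) ^ 3) := by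
    obtain ⟨c, hc⟩ := isConj_iff.1 isConj_five
    exact isConj_iff.2 ⟨c, by rw [← conj_pow, hc]⟩
  have h2 : (v ^ 5) ^ 3 = v ^ 7 := by
    rw [← pow_mul, show 5 * 3 = 8 + 7 by norm_num, pow_add, v_eight, one_mul]
  rw [← h2]
  exact isConj_three.trans h1

/-- `v` is conjugate to all its odd powers. -/
theorem isConj_pow {k : ℕ} (hk : Odd k) : IsConj v (v ^ k) := by
  have h1 : v ^ k = v ^ (k % 8) := by
    have := pow_mod_orderOf v k
    rw [order_v] at this
    exact this.symm
  rw [h1]
  obtain ⟨m, rfl⟩ := hk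
  have h2 : (2 * m + 1) % 8 = 1 ∨ (2 * m + 1) % 8 = 3 ∨ (2 * m + 1) % 8 = 5 ∨ (2 * m + 1) % 8 = 7 := by omega
  rcases h2 with h | h | h | h
  · rw [h, pow_one]
  · rw [h]; exact isConj_three
  · rw [h]; exact isConj_five
  · rw [h]; exact isConj_seven

theorem isConj_ψ_pow {k : ℕ} (hk : Odd k) : IsConj (ψ v) ((ψ v) ^ k) := by
  obtain ⟨c, hc⟩ := isConj_iff.1 (isConj_pow hk)
  exact isConj_iff.2 ⟨ψ c, by rw [← map_pow, ← hc, map_mul, map_mul, map_inv]⟩

/-- **(P3) of S4842, `HN`.** -/
theorem p3 : ∃ v : Cfsg.Spor.HN, orderOf v = 8 ∧ v ^ 4 = Pres.hx ^ 2 ∧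
    Nat.card (centralizer ({v} : Set Cfsg.Spor.HN)) = 80 ∧ ∀ k : ℕ, Odd k → IsConj v (v ^ k) :=
  ⟨ψ v, order_ψv, ψv_four.trans ψ_τ, card_cent_ψv, fun _ hk => isConj_ψ_pow hk⟩

/-- the shape used by `H604/OZ/HNKill` -/
theorem p3' : ∃ v : Cfsg.Spor.HN, orderOf v = 8 ∧ 40 ∣ Nat.card (centralizer ({v} : Set Cfsg.Spor.HN)) ∧
    Nat.card (centralizer ({v} : Set Cfsg.Spor.HN)) ≤ 80 ∧ ∀ k : ℕ, Odd k → IsConj (v ^ k) v :=
  ⟨ψ v, order_ψv, by rw [card_cent_ψv]; exact ⟨2, rfl⟩, card_cent_ψv.le, fun _ hk => (isConj_ψ_pow hk).symm⟩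

end Cfsg.Agent.H285.HNEight
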